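import Cfsg.Agent.H25.CITStruct
import Cfsg.Agent.H1.Fpf
import Cfsg.Agent.S0033

/-!
Nilpotent CC subgroups of even order.
-/

set_option autoImplicit false

namespace Cfsg.Agent.H25

open Subgroup Cfsg.Agent.H69 Cfsg.Agent.H12

variable {G : Type*} [Group G] [Finite G]

/-- A subgroup containing the centralizers of its non-identity elements and properly contained in
its normalizer is nilpotent. -/
theorem nilpotent_of_cc {K : Subgroup G} (hCC : ∀ x ∈ K, x ≠ 1 → centralizer ({x} : Set G) ≤ K)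
    {a : G} (ha : a ∈ normalizer (K : Set G)) (haK : a ∉ K) : Group.IsNilpotent K := by
  by_cases hK : K = ⊥
  · subst hK; infer_instance
  have hn : (K.subgroupOf (normalizer (K : Set G))).Normal := normal_subgroupOf_iff_le_normalizer
    le_normalizer |>.2 le_rfl
  set a' : normalizer (K : Set G) ⧸ K.subgroupOf (normalizer (K : Set G)) := QuotientGroup.mk ⟨a, ha⟩
  have h1 : orderOf a' ≠ 1 := fun e => haK
    ((QuotientGroup.eq_one_iff (⟨a, ha⟩ : normalizer (K : Set G))).1 (orderOf_eq_one_iff.1 e))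
  obtain ⟨p, hp, n, hn'⟩ := Nat.exists_prime_and_dvd h1
  have hn0 : n ≠ 0 := by
    rintro rfl
    exact (orderOf_pos a').ne' hn'
  have hb : a ^ n ∉ K := fun e => by
    have : a' ^ n = 1 := by
      rw [← QuotientGroup.mk_pow, QuotientGroup.eq_one_iff]; exact e
    have := Nat.le_of_dvd (Nat.pos_of_ne_zero hn0) (orderOf_dvd_of_pow_eq_one this)
    have := hp.two_le
    nlinarith [Nat.pos_of_ne_zero hn0]
  have hbp : (a ^ n) ^ p ∈ K := by
    have : a' ^ (n * p) = 1 := by rw [mul_comm, ← hn', pow_orderOf_eq_one]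
    rw [← QuotientGroup.mk_pow, QuotientGroup.eq_one_iff] at this
    rw [← pow_mul]; exact this
  have hbp1 : (a ^ n) ^ p = 1 := by
    by_contra e
    exact hb (hCC _ hbp e (mem_centralizer_singleton_iff.2 (Commute.self_pow _ _).eq))
  have hmap : K.map (MulAut.conj (a ^ n)).toMonoidHom = K := cj_eq_self_iff.2 (pow_mem ha n)
  have hf : MonoidHom.FixedPointFree (H1.resAut (MulAut.conj (a ^ n)) K hmap : K →* K) := by
    intro x hx
    by_contra h1
    have h2 : a ^ n * x * (a ^ n)⁻¹ = x := congrArg Subtype.val hx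
    exact hb (hCC x x.2 (fun e => h1 (Subtype.ext e)) (mem_centralizer_singleton_iff.2
      (mul_inv_eq_iff_eq_mul.1 h2)))
  have := Fact.mk hp
  refine Cfsg.Agent.S0033.result _ hf p hp (orderOf_eq_prime
    (H1.resAut_pow_eq_one hmap (by rw [← map_pow, hbp1, map_one])) fun e => ?_)
  obtain ⟨x, hx⟩ := ne_bot_iff_exists_ne_one.1 hK
  exact hx (hf x (by rw [e]; rfl))

/-- A nilpotent CC subgroup of even order of a non-solvable group is normal or a Sylow
`2`-subgroup, and then the group is CIT with TI Sylow `2`-subgroups. -/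
theorem cit_of_cc_nilpotent (hG : ¬ Group.IsSolvable G) {K : Subgroup G}
    (hCC : ∀ x ∈ K, x ≠ 1 → centralizer ({x} : Set G) ≤ K) (hK : Group.IsNilpotent K)
    {t : G} (ht : orderOf t = 2) (htK : t ∈ K) (hn : ¬ K.Normal) :
    SylOf 2 K ⊤ ∧ IsCIT G ∧ TISyl G := by
  have := Fact.mk Nat.prime_two
  obtain ⟨T, hT⟩ := exists_sylOf 2 K
  obtain ⟨z, hz, hz2⟩ := exists_invol_mem (OZ_ea T).isPGroup
    (OZ_ne_bot hT.isPGroup (hT.ne_bot (ht ▸ orderOf_dvd_natCard K htK)))
  have hz' : z ^ 2 ^ 1 = 1 := by rw [pow_one, pow_two, hz.2.1]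
  have hzc : ∀ y ∈ K, z * y = y * z := by
    intro y hy
    obtain ⟨u, hu, b, hb, ⟨k, hk⟩, hbo, rfl⟩ := exists_two_odd_mul y
    have h1 := hz.2.2 u (mem_sylow_of_nilpotent hK hT (zpowers_le_of_mem hy hu) hk)
    have h2 := comm_of_nilpotent_odd hK (zpowers_le_of_mem hy hb) (hT.le hz.1) hbo hz'
    rw [← mul_assoc, h1, mul_assoc, ← h2, mul_assoc]
  rcases zass_of_cc K hCC hz2 (hT.le hz.1) hzc with h | h | ⟨h, hc, -⟩
  · exact absurd h hn
  · exact absurd (solvable_of_frobenius h inferInstance) hG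
  obtain ⟨p, f, hp, e⟩ := zass_degree_prime_pow h
  rw [hc, Nat.add_right_cancel_iff] at e
  have h2 : 2 ∣ p ^ f := by
    rw [← e, ← ht]
    exact orderOf_dvd_natCard _ htK
  obtain rfl : 2 = p := (Nat.prime_dvd_prime_iff_eq Nat.prime_two hp).1
    (Nat.prime_two.dvd_of_dvd_pow h2)
  have hK2 : IsPGroup 2 K := IsPGroup.of_card e
  have key : ∀ T' : Subgroup G, IsPGroup 2 T' → ∀ x ∈ K, x ∈ T' → x ≠ 1 → T' ≤ K := by
    intro T' hT' x hx hxT hx1
    obtain ⟨y, hy, hy2⟩ := exists_invol_mem (OZ_ea T').isPGroup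
      (OZ_ne_bot hT' fun e => hx1 (by rw [e] at hxT; exact hxT))
    have hyK := hCC x hx hx1 (mem_centralizer_singleton_iff.2 (hy.2.2 x hxT))
    exact fun s hs => hCC y hyK (ne_one_of_orderOf hy2)
      (mem_centralizer_singleton_iff.2 (hy.2.2 s hs).symm)
  have hS : SylOf 2 K ⊤ := by
    obtain ⟨T', hT', hle⟩ := exists_sylOf_ge hK2 le_top
    exact le_antisymm (key T' hT'.isPGroup t htK (hle htK) (ne_one_of_orderOf ht)) hle ▸ hT'
  refine ⟨hS, fun s hs => ?_, fun A B hA hB hAB => ?_⟩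
  · obtain ⟨g, -, hg⟩ := hS.exists_cj_le (isPGroup_zpowers_of_pow (x := s) (p := 2) (k := 1)
      (by rw [pow_one, pow_two, mul_self_of_orderOf hs])) le_top
    have h1 : g * s * g⁻¹ ∈ K := hg (conj_mem_cj.2 (mem_zpowers s))
    rw [← isPGroup_cj_iff (g := g), cj_centralizer_singleton]
    exact hK2.to_le (hCC _ h1 (by simpa using ne_one_of_orderOf hs))
  · obtain ⟨g, -, rfl⟩ := hS.exists_conj hA
    by_contra hne
    obtain ⟨⟨x, hx⟩, hx1⟩ := ne_bot_iff_exists_ne_one.1 hne
    have h1 := key (cj g⁻¹ B) (isPGroup_cj _ hB.isPGroup) _ (mem_cj.1 hx.1)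
      (by simpa [mem_cj, mul_assoc] using hx.2) (by
        intro e
        apply hx1
        apply Subtype.ext
        simpa [mul_eq_one_iff_eq_inv] using e)
    exact hAB (hB.maximal _ hA.isPGroup (le_cj_iff.2 h1) le_top)

end Cfsg.Agent.H25
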